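import Mathlib.NumberTheory.NumberField.InfiniteAdeleRing
import Mathlib.NumberTheory.NumberField.CanonicalEmbedding.ConvexBody
import Mathlib.NumberTheory.NumberField.ClassNumber
import Mathlib.NumberTheory.NumberField.FinitePlaces
import Mathlib.NumberTheory.NumberField.Units.Basic

/-!
# Strong approximation for `𝔾ₐ` over a number field, off a finite place
-/

set_option autoImplicit false
universe u

open IsDedekindDomain NumberField WithZero Topology

namespace Groth.Agent.StrongApprox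

variable {K : Type u} [Field K] [NumberField K]

local notation "Pl" => HeightOneSpectrum (𝓞 K)

/-- a power of a prime is principal -/
theorem exists_generator (v : Pl) :
    ∃ π : 𝓞 K, π ≠ 0 ∧ π ∈ v.asIdeal ∧ ∀ w : Pl, w ≠ v → π ∉ w.asIdeal := by
  classical
  let h := classNumber K
  have hpos : 0 < h := Fintype.card_pos
  have hv : v.asIdeal ∈ nonZeroDivisors (Ideal (𝓞 K)) := mem_nonZeroDivisors_of_ne_zero v.ne_bot
  have h1 : ClassGroup.mk0 ⟨v.asIdeal ^ h, pow_mem hv h⟩ = 1 := by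
    rw [show (⟨v.asIdeal ^ h, pow_mem hv h⟩ : nonZeroDivisors (Ideal (𝓞 K))) = ⟨v.asIdeal, hv⟩ ^ h from rfl,
      map_pow]
    exact pow_card_eq_one
  obtain ⟨π, hπ⟩ := ((ClassGroup.mk0_eq_one_iff (pow_mem hv h)).mp h1).principal
  rw [Ideal.submodule_span_eq] at hπ
  refine ⟨π, ?_, ?_, ?_⟩
  · rintro rfl
    rw [Ideal.span_singleton_eq_bot.mpr rfl] at hπ
    exact v.ne_bot (pow_eq_zero_iff hpos.ne' |>.mp hπ)
  · exact Ideal.pow_le_self hpos.ne' (hπ ▸ Ideal.mem_span_singleton_self π)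
  · intro w hw hmem
    have : v.asIdeal ^ h ≤ w.asIdeal := by rw [hπ, Ideal.span_singleton_le_iff_mem]; exact hmem
    have hle := w.isPrime.le_of_pow_le this
    exact hw (HeightOneSpectrum.ext (v.isMaximal.eq_of_le w.isPrime.ne_top hle).symm)

theorem infinitePlace_le_sum {ι : Type*} (s : Finset ι) (g : ι → K) (w : InfinitePlace K) :
    w (∑ i ∈ s, g i) ≤ ∑ i ∈ s, w (g i) := by
  classical
  induction s using Finset.induction_on with
  | empty => simp
  | insert i s hi ih =>
    rw [Finset.sum_insert hi, Finset.sum_insert hi]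
    exact le_trans (w.1.add_le _ _) (add_le_add le_rfl ih)

theorem exists_round : ∃ C : ℝ, ∀ r : K, ∃ z : 𝓞 K, ∀ w : InfinitePlace K, w (r - z) ≤ C := by
  classical
  let b := RingOfIntegers.basis K
  refine ⟨∑ i, ∑ w : InfinitePlace K, w (b i : K), fun r => ?_⟩
  refine ⟨∑ i, (⌊(integralBasis K).repr r i⌋ : ℤ) • b i, fun w => ?_⟩
  have e : r - algebraMap (𝓞 K) K (∑ i, (⌊(integralBasis K).repr r i⌋ : ℤ) • b i) =
      ∑ i, ((Int.fract ((integralBasis K).repr r i) : ℚ) : K) * algebraMap (𝓞 K) K (b i) := by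
    conv_lhs => arg 1; rw [← (integralBasis K).sum_repr r]
    rw [map_sum, ← Finset.sum_sub_distrib]
    refine Finset.sum_congr rfl fun i _ => ?_
    rw [integralBasis_apply, map_zsmul, Int.fract, Algebra.smul_def, zsmul_eq_mul, eq_ratCast]
    push_cast; ring
  rw [show r - ((∑ i, (⌊(integralBasis K).repr r i⌋ : ℤ) • b i : 𝓞 K) : K) = _ from e]
  refine (infinitePlace_le_sum _ _ w).trans (Finset.sum_le_sum fun i _ => ?_)
  rw [map_mul]
  calc w ((Int.fract ((integralBasis K).repr r i) : ℚ) : K) * w (b i : K) ≤ 1 * w (b i : K) := by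
        refine mul_le_mul_of_nonneg_right ?_ (apply_nonneg _ _)
        rw [← w.norm_embedding_eq, map_ratCast, Complex.norm_ratCast, abs_le]
        constructor
        · exact le_trans (by norm_num) (Rat.cast_nonneg.mpr (Int.fract_nonneg _))
        · exact_mod_cast (Int.fract_lt_one _).le
    _ ≤ _ := by
        rw [one_mul]
        exact Finset.single_le_sum (f := fun w : InfinitePlace K => w (b i : K))
          (fun _ _ => apply_nonneg _ _) (Finset.mem_univ w)

theorem exists_exp (v : Pl) {M : Set (v.adicCompletion K)} {x : v.adicCompletion K}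
    (hM : IsOpen M) (hx : x ∈ M) :
    ∃ e : ℕ, ∀ y, Valued.v (y - x) ≤ exp (-(e : ℤ)) → y ∈ M := by
  obtain ⟨γ, hγ⟩ := Valued.mem_nhds.mp (hM.mem_nhds hx)
  have h0 : MonoidWithZeroHom.ValueGroup₀.embedding γ.1 ≠ 0 := by simp
  obtain ⟨m, hm⟩ : ∃ m : ℤ, exp m = MonoidWithZeroHom.ValueGroup₀.embedding γ.1 :=
    ⟨WithZero.log _, exp_log h0⟩
  refine ⟨(-m + 1).toNat, fun y hy => hγ ?_⟩
  show Valuation.restrict _ (y - x) < γ.1
  rw [Valuation.restrict_lt_iff_lt_embedding, ← hm]
  exact lt_of_le_of_lt hy (exp_lt_exp.mpr (by omega))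

theorem valuation_le_exp_of_mem (v : Pl) {r : 𝓞 K} {n : ℕ} (h : r ∈ v.asIdeal ^ n) :
    v.valuation K (r : K) ≤ exp (-(n : ℤ)) := by
  rw [HeightOneSpectrum.valuation_of_algebraMap]
  exact (v.intValuation_le_pow_iff_mem r n).mpr h

theorem valuation_eq_one_of_notMem (v : Pl) {r : 𝓞 K} (h : r ∉ v.asIdeal) :
    v.valuation K (r : K) = 1 := by
  rw [HeightOneSpectrum.valuation_of_algebraMap]
  exact HeightOneSpectrum.intValuation_eq_one_iff.mpr h

theorem finite_setOf_mem {r : 𝓞 K} (hr : r ≠ 0) : {v : Pl | r ∈ v.asIdeal}.Finite := by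
  refine (Ideal.finite_factors (I := Ideal.span {r}) (by simpa using hr)).subset fun v hv => ?_
  rw [Set.mem_ofPred_eq] at hv ⊢
  rw [Ideal.dvd_span_singleton]; exact hv

theorem exists_pow_gt (v : Pl) {r : 𝓞 K} (hr : r ≠ 0) :
    ∃ n : ℕ, exp (-(n : ℤ)) ≤ v.valuation K (r : K) := by
  have h0 : v.valuation K (r : K) ≠ 0 := by simpa using hr
  refine ⟨(-WithZero.log (v.valuation K (r : K))).toNat, ?_⟩
  conv_rhs => rw [← exp_log h0]
  exact exp_le_exp.mpr (by omega)

/-- approximation at finitely many finite places, integral elsewhere -/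
theorem exists_finite_near (F : Finset Pl) (N : (v : Pl) → Set (v.adicCompletion K))
    (hN : ∀ v ∈ F, IsOpen (N v) ∧ (N v).Nonempty) :
    ∃ a : K, (∀ v, v ∉ F → v.valuation K a ≤ 1) ∧
      ∃ e : Pl → ℕ, ∀ b : K, (∀ v ∈ F, v.valuation K b ≤ exp (-(e v : ℤ))) →
        ∀ v ∈ F, algebraMap K (v.adicCompletion K) (a + b) ∈ N v := by
  classical
  have h : ∀ v ∈ F, ∃ (d : K) (e : ℕ), ∀ y : K, v.valuation K (y - d) ≤ exp (-(e : ℤ)) →
      algebraMap K (v.adicCompletion K) y ∈ N v := by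
    intro v hv
    obtain ⟨hO, hne⟩ := hN v hv
    obtain ⟨d, hd⟩ := (HeightOneSpectrum.denseRange_algebraMap K v).exists_mem_open hO hne
    obtain ⟨e, he⟩ := exists_exp v hO hd
    refine ⟨d, e, fun y hy => he _ ?_⟩
    rw [← map_sub]
    exact le_of_eq_of_le (HeightOneSpectrum.valuedAdicCompletion_eq_valuation' v _) hy
  choose! d e he using h
  obtain ⟨⟨c, hc⟩, hcd⟩ := IsLocalization.exist_integer_multiples (nonZeroDivisors (𝓞 K)) F d
  have hc0 : c ≠ 0 := nonZeroDivisors.ne_zero hc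
  choose! n hn using hcd
  choose m hm using fun v : Pl => exists_pow_gt v hc0
  let s := F ∪ (finite_setOf_mem hc0).toFinset
  obtain ⟨y, hy⟩ := IsDedekindDomain.exists_forall_sub_mem_ideal (s := s)
    (fun v : Pl => v.asIdeal) (fun v => m v + e v) (fun v _ => v.prime)
    (fun v _ w _ hne hvw => hne (HeightOneSpectrum.ext hvw))
    (fun v => if (v : Pl) ∈ F then n v else 0)
  refine ⟨(y : K) / (c : K), fun v hv => ?_, e, fun b hb v hv => he v hv _ ?_⟩
  · rw [map_div₀]
    have hc' : v.valuation K (c : K) ≠ 0 := by simpa using hc0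
    rw [div_le_one₀ (zero_lt_iff.mpr hc')]
    by_cases hcv : c ∈ v.asIdeal
    · have hvs : v ∈ s := Finset.mem_union_right _ ((finite_setOf_mem hc0).mem_toFinset.mpr hcv)
      have := hy v hvs
      simp only [hv, if_false, sub_zero] at this
      calc v.valuation K (y : K) ≤ exp (-((m v + e v : ℕ) : ℤ)) := valuation_le_exp_of_mem v this
        _ ≤ exp (-(m v : ℤ)) := exp_le_exp.mpr (by push_cast; omega)
        _ ≤ _ := hm v
    · rw [valuation_eq_one_of_notMem v hcv]; exact v.valuation_le_one _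
  · have hvs : v ∈ s := Finset.mem_union_left _ hv
    have := hy v hvs
    simp only [hv, if_true] at this
    have hcn : algebraMap (𝓞 K) K (n v) = (c : K) * d v := by
      rw [hn v hv]; exact Algebra.smul_def _ _
    have hc' : (c : K) ≠ 0 := by simpa using hc0
    have e1 : (y : K) / (c : K) + b - d v = algebraMap (𝓞 K) K (y - n v) / (c : K) + b := by
      rw [map_sub, hcn]; field_simp; ring
    rw [e1]
    refine le_trans (Valuation.map_add _ _ _) (max_le ?_ (hb v hv))
    rw [map_div₀, div_le_iff₀ (zero_lt_iff.mpr (by simpa using hc0))]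
    calc v.valuation K ((y - n v : 𝓞 K) : K) ≤ exp (-((m v + e v : ℕ) : ℤ)) :=
          valuation_le_exp_of_mem v this
      _ = exp (-(e v : ℤ)) * exp (-(m v : ℤ)) := by rw [← exp_add]; congr 1; push_cast; ring
      _ ≤ _ := by gcongr; exact hm v

/-- small elements of `O[1/π]` highly divisible at a finite set of places -/
theorem exists_small (v₀ : Pl) (F : Finset Pl) (hF : v₀ ∉ F) (e : Pl → ℕ) {δ : ℝ} (hδ : 0 < δ) :
    ∃ y : K, y ≠ 0 ∧ (∀ w : InfinitePlace K, w y < δ) ∧
      (∀ v, v ≠ v₀ → v.valuation K y ≤ 1) ∧ ∀ v ∈ F, v.valuation K y ≤ exp (-(e v : ℤ)) := by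
  classical
  obtain ⟨π, hπ0, hπv, hπ⟩ := exists_generator v₀
  obtain ⟨c, hcI, hc0⟩ : ∃ c ∈ ∏ v ∈ F, v.asIdeal ^ e v, c ≠ (0 : 𝓞 K) :=
    Submodule.exists_mem_ne_zero_of_ne_bot (Finset.prod_ne_zero_iff.mpr fun v _ => pow_ne_zero _ v.ne_bot)
  have hπ' : (π : K) ≠ 0 := by simpa using hπ0
  have hc' : (c : K) ≠ 0 := by simpa using hc0
  have hwpos : ∀ (w : InfinitePlace K) {x : K}, x ≠ 0 → 0 < w x := fun w x hx => w.pos_iff.mpr hx
  have hN : 1 < |(Algebra.norm ℚ (π : K) : ℚ)| := by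
    rw [← Algebra.coe_norm_int]
    have h1 : ¬ IsUnit π := fun h => v₀.isPrime.ne_top (Ideal.eq_top_of_isUnit_mem _ hπv h)
    have h2 : Algebra.norm ℤ π ≠ 0 := by simpa using hπ0
    have h3 : ¬ IsUnit (Algebra.norm ℤ π) := fun h => h1 ((NumberField.isUnit_iff_norm).mpr (by
      rw [RingOfIntegers.coe_norm, ← Algebra.coe_norm_int]; exact_mod_cast Int.isUnit_iff_abs_eq.mp h))
    rw [← Int.cast_abs]
    exact_mod_cast lt_of_le_of_ne (Int.one_le_abs h2) fun h => h3 (Int.isUnit_iff_abs_eq.mpr h.symm)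
  let f : ℕ → InfinitePlace K → NNReal := fun j w =>
    ⟨δ * w (π : K) ^ j / w (c : K), div_nonneg (mul_nonneg hδ.le (pow_nonneg (apply_nonneg _ _) _))
      (apply_nonneg _ _)⟩
  let P : ℝ := ∏ w : InfinitePlace K, (δ / w (c : K)) ^ w.mult
  have hP : 0 < P := Finset.prod_pos fun w _ => pow_pos (div_pos hδ (hwpos w hc')) _
  have hprod : ∀ j, ((∏ w, f j w ^ w.mult : NNReal) : ℝ) =
      P * ((|(Algebra.norm ℚ (π : K) : ℚ)| : ℚ) : ℝ) ^ j := by
    intro j
    rw [← InfinitePlace.prod_eq_abs_norm, ← Finset.prod_pow, ← Finset.prod_mul_distrib, NNReal.coe_prod]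
    refine Finset.prod_congr rfl fun w _ => ?_
    show (δ * w (π : K) ^ j / w (c : K)) ^ w.mult = _
    rw [← pow_mul, mul_comm w.mult j, pow_mul, ← mul_pow]
    congr 1; ring
  obtain ⟨j, hj⟩ := pow_unbounded_of_one_lt
    (((mixedEmbedding.minkowskiBound K ↑1 / (mixedEmbedding.convexBodyLTFactor K)).toNNReal : ℝ) / P)
    (show (1 : ℝ) < ((|(Algebra.norm ℚ (π : K) : ℚ)| : ℚ) : ℝ) by exact_mod_cast hN)
  have hbig : mixedEmbedding.minkowskiBound K ↑1 <
      MeasureTheory.volume (mixedEmbedding.convexBodyLT K (f j)) := by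
    rw [mixedEmbedding.convexBodyLT_volume]
    have hfac0 : (mixedEmbedding.convexBodyLTFactor K : ENNReal) ≠ 0 :=
      ENNReal.coe_ne_zero.mpr (mixedEmbedding.convexBodyLTFactor_ne_zero K)
    have hlt : mixedEmbedding.minkowskiBound K ↑1 / (mixedEmbedding.convexBodyLTFactor K) ≠ ⊤ :=
      ENNReal.div_ne_top (mixedEmbedding.minkowskiBound_lt_top K _).ne hfac0
    rw [mul_comm, ← ENNReal.div_lt_iff (Or.inl hfac0) (Or.inl ENNReal.coe_ne_top),
      ← ENNReal.coe_toNNReal hlt]
    norm_cast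
    rw [← NNReal.coe_lt_coe, hprod]
    rw [div_lt_iff₀ hP] at hj
    linarith [mul_comm P (((|(Algebra.norm ℚ (π : K) : ℚ)| : ℚ) : ℝ) ^ j)]
  obtain ⟨z, hz0, hz⟩ := mixedEmbedding.exists_ne_zero_mem_ringOfIntegers_lt K hbig
  refine ⟨(c : K) * (z : K) / (π : K) ^ j,
    div_ne_zero (mul_ne_zero hc' (by simpa using hz0)) (pow_ne_zero _ hπ'), fun w => ?_, ?_, ?_⟩
  · rw [map_div₀, map_mul, map_pow, div_lt_iff₀ (pow_pos (hwpos w hπ') _)]
    have := hz w
    change w (z : K) < δ * w (π : K) ^ j / w (c : K) at this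
    rw [lt_div_iff₀ (hwpos w hc')] at this
    linarith
  · intro v hv
    rw [map_div₀, map_mul, map_pow, valuation_eq_one_of_notMem v (hπ v hv), one_pow, div_one]
    exact mul_le_one' (v.valuation_le_one _) (v.valuation_le_one _)
  · intro v hv
    have hne : v ≠ v₀ := fun h => hF (h ▸ hv)
    rw [map_div₀, map_mul, map_pow, valuation_eq_one_of_notMem v (hπ v hne), one_pow, div_one]
    refine le_trans (mul_le_of_le_one_right' (v.valuation_le_one _)) (valuation_le_exp_of_mem v ?_)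
    exact (Ideal.prod_le_inf.trans (Finset.inf_le hv)) hcI

/-- **Strong approximation** off `v₀`: an element integral outside `F ∪ {v₀}` in given open sets at the
places of `F` and at the infinite places. -/
theorem exists_near (v₀ : Pl) (F : Finset Pl) (hF : v₀ ∉ F)
    (N : (v : Pl) → Set (v.adicCompletion K)) (hN : ∀ v ∈ F, IsOpen (N v) ∧ (N v).Nonempty)
    (Ni : (w : InfinitePlace K) → Set w.Completion) (hNi : ∀ w, IsOpen (Ni w) ∧ (Ni w).Nonempty) :
    ∃ a : K, (∀ v, v ∉ F → v ≠ v₀ → v.valuation K a ≤ 1) ∧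
      (∀ v ∈ F, algebraMap K (v.adicCompletion K) a ∈ N v) ∧
      ∀ w : InfinitePlace K, algebraMap K w.Completion a ∈ Ni w := by
  classical
  obtain ⟨a₀, ha₀, e, he⟩ := exists_finite_near F N hN
  choose x hx using fun w => (hNi w).2
  choose ε hε hεN using fun w => Metric.isOpen_iff.mp (hNi w).1 (x w) (hx w)
  obtain ⟨C, hC⟩ := exists_round (K := K)
  let ε₀ : ℝ := Finset.univ.inf' Finset.univ_nonempty ε
  have hε₀ : 0 < ε₀ := (Finset.lt_inf'_iff _).mpr fun w _ => hε w
  obtain ⟨y, hy0, hyw, hyv, hyF⟩ := exists_small v₀ F hF e (δ := ε₀ / 2 / (max C 0 + 1)) (by positivity)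
  obtain ⟨q, hq⟩ : ∃ q : K, ∀ w : InfinitePlace K,
      dist (x w - algebraMap K w.Completion a₀) (algebraMap K w.Completion q) < ε₀ / 2 := by
    obtain ⟨q, hq⟩ := (InfiniteAdeleRing.denseRange_algebraMap K).exists_mem_open
      (s := Set.pi Set.univ fun w => Metric.ball (x w - algebraMap K w.Completion a₀) (ε₀ / 2))
      (isOpen_set_pi Set.finite_univ fun w _ => Metric.isOpen_ball)
      ⟨fun w => x w - algebraMap K w.Completion a₀, fun w _ => Metric.mem_ball_self (by positivity)⟩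
    exact ⟨q, fun w => by rw [dist_comm]; exact hq w trivial⟩
  obtain ⟨z, hz⟩ := hC (q / y)
  refine ⟨a₀ + y * z, fun v hv hv₀ => ?_, fun v hv => ?_, fun w => ?_⟩
  · refine le_trans (Valuation.map_add _ _ _) (max_le (ha₀ v hv) ?_)
    rw [map_mul]
    exact mul_le_one' (hyv v hv₀) (v.valuation_le_one _)
  · refine he _ (fun u hu => ?_) v hv
    rw [map_mul]
    exact le_trans (mul_le_of_le_one_right' (u.valuation_le_one _)) (hyF u hu)
  · refine hεN w ?_
    rw [Metric.mem_ball]
    refine lt_of_lt_of_le ?_ (Finset.inf'_le ε (Finset.mem_univ w))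
    have h1 : dist (algebraMap K w.Completion (y * z)) (algebraMap K w.Completion q) < ε₀ / 2 := by
      rw [dist_comm, dist_eq_norm, ← map_sub, InfinitePlace.Completion.algebraMap_apply, InfinitePlace.Completion.norm_coe]
      show w (q - y * (z : K)) < ε₀ / 2
      rw [show q - y * (z : K) = y * (q / y - z) by field_simp, map_mul]
      calc w y * w (q / y - (z : K)) ≤ w y * (max C 0 + 1) := by
            gcongr
            linarith [hz w, le_max_left C 0]
        _ < ε₀ / 2 / (max C 0 + 1) * (max C 0 + 1) := mul_lt_mul_of_pos_right (hyw w) (by positivity)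
        _ = ε₀ / 2 := by field_simp
    have h2 := hq w
    rw [dist_eq_norm] at h1 h2 ⊢
    calc ‖algebraMap K w.Completion (a₀ + y * (z : K)) - x w‖
        = ‖(algebraMap K w.Completion (y * (z : K)) - algebraMap K w.Completion q) -
            (x w - algebraMap K w.Completion a₀ - algebraMap K w.Completion q)‖ := by
          congr 1; rw [map_add]; ring
      _ ≤ _ + _ := norm_sub_le _ _
      _ < ε₀ := by linarith

end Groth.Agent.StrongApprox
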