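import Mathlib.Algebra.MvPolynomial.Equiv
import Mathlib.Algebra.MvPolynomial.Funext
import Mathlib.LinearAlgebra.Vandermonde
import Mathlib.Topology.Algebra.MvPolynomial
import Mathlib.RingTheory.KrullDimension.Polynomial
import Groth.Agent.StrongApprox.Basic
import Groth.Agent.DimLib.Algebra

/-!
# Strong approximation for the complement of a closed subset of codimension two of affine space
-/

set_option autoImplicit false
universe u

open IsDedekindDomain NumberField WithZero Topology MvPolynomial

namespace Groth.Agent.StrongApprox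

section Algebra

/-- evaluation through the last variable -/
theorem eval₂_cons {O A : Type*} [CommRing O] [CommRing A] (φ : O →+* A) {n : ℕ} (x : A)
    (s : Fin n → A) (f : MvPolynomial (Fin (n + 1)) O) :
    eval₂Hom φ (Fin.cons x s) f =
      Polynomial.eval₂ (eval₂Hom φ s) x (finSuccEquiv O n f) := by
  have : eval₂Hom φ (Fin.cons x s : Fin (n + 1) → A) =
      (Polynomial.eval₂RingHom (eval₂Hom φ s) x).comp (finSuccEquiv O n).toRingHom := by
    refine MvPolynomial.ringHom_ext (fun r => ?_) (Fin.cases ?_ fun i => ?_)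
    · simp [finSuccEquiv_apply]
    · simp [finSuccEquiv_apply]
    · simp [finSuccEquiv_apply]
  exact RingHom.congr_fun this f

theorem eval₂_cons_sum {O A : Type*} [CommRing O] [CommRing A] (φ : O →+* A) {n D : ℕ} (x : A)
    (s : Fin n → A) (f : MvPolynomial (Fin (n + 1)) O) (hD : (finSuccEquiv O n f).natDegree ≤ D) :
    eval₂Hom φ (Fin.cons x s) f =
      ∑ l : Fin (D + 1), eval₂Hom φ s ((finSuccEquiv O n f).coeff l) * x ^ (l : ℕ) := by
  rw [eval₂_cons, Polynomial.eval₂_eq_sum_range' _ (Nat.lt_succ_of_le hD), Fin.sum_univ_eq_sum_range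
    (fun i => eval₂Hom φ s ((finSuccEquiv O n f).coeff i) * x ^ i)]

theorem le_ringKrullDim_of_injective {k : Type u} [Field k] {n : ℕ} {A : Type u} [CommRing A]
    [Algebra k A] [Algebra.FiniteType k A] (g : MvPolynomial (Fin n) k →ₐ[k] A)
    (hg : Function.Injective g) : ((n : ℕ) : WithBot ℕ∞) ≤ ringKrullDim A := by
  let M : Submonoid A := (nonZeroDivisors (MvPolynomial (Fin n) k)).map g
  have hM : Disjoint ((⊥ : Ideal A) : Set A) (M : Set A) := by
    rw [Set.disjoint_left]
    rintro a ha ⟨c, hc, rfl⟩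
    exact nonZeroDivisors.ne_zero hc (hg (by rw [map_zero]; exact ha))
  obtain ⟨p, hp, -, hpM⟩ := Ideal.exists_le_prime_disjoint ⊥ M hM
  refine le_trans ?_ (ringKrullDim_quotient_le p)
  let g' := (Ideal.Quotient.mkₐ k p).comp g
  have hg' : Function.Injective g' := by
    rw [injective_iff_map_eq_zero]
    intro c hc
    by_contra h
    exact Set.disjoint_left.mp hpM (Ideal.Quotient.eq_zero_iff_mem.mp hc)
      ⟨c, mem_nonZeroDivisors_of_ne_zero h, rfl⟩
  have hind : AlgebraicIndependent k (fun i : Fin n => g' (X i)) := by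
    rw [AlgebraicIndependent, show aeval (fun i : Fin n => g' (X i)) = g' from
      MvPolynomial.algHom_ext fun i => by simp]
    exact hg'
  obtain ⟨s, -, -, -, h1, h2⟩ := DimLib.exists_normalization (k := k) (A := A ⧸ p)
  have h3 := hind.lift_cardinalMk_le_trdeg
  rw [h2] at h3
  simp only [Cardinal.mk_fintype, Fintype.card_fin, Cardinal.lift_natCast, Nat.cast_le] at h3
  rw [h1]; exact_mod_cast h3

end Algebra

variable {K : Type u} [Field K] [NumberField K]

local notation "Pl" => HeightOneSpectrum (𝓞 K)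

/-- evaluation of integral polynomials in a `K`-algebra -/
noncomputable def ev (A : Type*) [CommRing A] [Algebra K A] {n : ℕ} (P : Fin n → A) :
    MvPolynomial (Fin n) (𝓞 K) →+* A :=
  eval₂Hom ((algebraMap K A).comp (algebraMap (𝓞 K) K)) P

theorem ev_eq (A : Type*) [CommRing A] [Algebra K A] {n : ℕ} (P : Fin n → A)
    (f : MvPolynomial (Fin n) (𝓞 K)) :
    aeval P (MvPolynomial.map (algebraMap (𝓞 K) K) f) = ev A P f := by
  rw [aeval_def, eval₂_map]; rfl

theorem ev_comp (A : Type*) [CommRing A] [Algebra K A] {n : ℕ} (P : Fin n → K)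
    (f : MvPolynomial (Fin n) (𝓞 K)) :
    algebraMap K A (ev K P f) = ev A (fun i => algebraMap K A (P i)) f := by
  rw [ev, ev, coe_eval₂Hom, coe_eval₂Hom, eval₂_comp_left]
  rfl

/-- integral point with some value a unit -/
def Good (v : Pl) {n : ℕ} {ι : Type*} (f : ι → MvPolynomial (Fin n) (𝓞 K))
    (R : Fin n → v.adicCompletion K) : Prop :=
  (∀ i, R i ∈ v.adicCompletionIntegers K) ∧ ∃ j, Valued.v (ev (v.adicCompletion K) R (f j)) = 1

theorem valued_algebraMap (v : Pl) (a : K) :
    Valued.v (algebraMap K (v.adicCompletion K) a) = v.valuation K a :=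
  HeightOneSpectrum.valuedAdicCompletion_eq_valuation' v a

theorem valued_algebraMap_le_one (v : Pl) (r : 𝓞 K) :
    Valued.v (algebraMap K (v.adicCompletion K) (r : K)) ≤ 1 := by
  rw [valued_algebraMap]; exact v.valuation_le_one r

theorem ev_mem_integers (v : Pl) {n : ℕ} {R : Fin n → v.adicCompletion K}
    (hR : ∀ i, R i ∈ v.adicCompletionIntegers K) (f : MvPolynomial (Fin n) (𝓞 K)) :
    ev (v.adicCompletion K) R f ∈ v.adicCompletionIntegers K := by
  induction f using MvPolynomial.induction_on with
  | C a => rw [ev, eval₂Hom_C]; exact valued_algebraMap_le_one v a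
  | add p q hp hq => rw [map_add]; exact add_mem hp hq
  | mul_X p i hp => rw [map_mul]; exact mul_mem hp (by rw [ev, eval₂Hom_X']; exact hR i)

theorem isOpen_integers (v : Pl) :
    IsOpen (v.adicCompletionIntegers K : Set (v.adicCompletion K)) :=
  Valued.isOpen_valuationSubring _

theorem isOpen_sphere (v : Pl) : IsOpen {x : v.adicCompletion K | Valued.v x = 1} := by
  rw [isOpen_iff_mem_nhds]
  intro x hx
  have hx0 : Valued.v x ≠ 0 := by rw [hx.out]; exact one_ne_zero
  exact Filter.mem_of_superset (Valued.locally_const hx0) fun y hy => hy.out.trans hx.out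

theorem continuous_ev (A : Type*) [CommRing A] [Algebra K A] [TopologicalSpace A]
    [IsTopologicalRing A] {n : ℕ} (f : MvPolynomial (Fin n) (𝓞 K)) :
    Continuous fun P : Fin n → A => ev A P f := by
  have h := (MvPolynomial.map ((algebraMap K A).comp (algebraMap (𝓞 K) K)) f).continuous_eval
  simp only [eval_map] at h
  exact h

theorem isOpen_good (v : Pl) {n : ℕ} {ι : Type*} (f : ι → MvPolynomial (Fin n) (𝓞 K)) :
    IsOpen {R : Fin n → v.adicCompletion K | Good v f R} := by
  have e : {R : Fin n → v.adicCompletion K | Good v f R} =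
      (⋂ i, (fun R : Fin n → v.adicCompletion K => R i) ⁻¹' (v.adicCompletionIntegers K : Set _)) ∩
        ⋃ j, (fun R => ev (v.adicCompletion K) R (f j)) ⁻¹' {x | Valued.v x = 1} := by
    ext R; simp [Good]
  rw [e]
  exact (isOpen_iInter_of_finite fun i => (isOpen_integers v).preimage (continuous_apply i)).inter
    (isOpen_iUnion fun j => (isOpen_sphere v).preimage (continuous_ev _ _))

theorem finite_valuation_ne_one {a : K} (ha : a ≠ 0) : {v : Pl | v.valuation K a ≠ 1}.Finite := by
  obtain ⟨b, c, hc, rfl⟩ := IsFractionRing.div_surjective (A := 𝓞 K) a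
  have hb : b ≠ 0 := by rintro rfl; simp at ha
  refine ((finite_setOf_mem hb).union (finite_setOf_mem (nonZeroDivisors.ne_zero hc))).subset
    fun v hv => ?_
  by_contra h
  simp only [Set.mem_union, Set.mem_ofPred_eq, not_or] at h
  exact hv (by rw [map_div₀, valuation_eq_one_of_notMem v h.1, valuation_eq_one_of_notMem v h.2, div_one])

theorem finite_not_le_one (a : K) : {v : Pl | ¬ v.valuation K a ≤ 1}.Finite := by
  rcases eq_or_ne a 0 with rfl | ha
  · simp
  · exact (finite_valuation_ne_one ha).subset fun v hv h => hv h.le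

/-- an `h` in the ideal is a unit at almost all places at which the point is integral -/
theorem finite_bad_of_mem_span {n m : ℕ} (f : Fin m → MvPolynomial (Fin (n + 1)) (𝓞 K))
    (h : MvPolynomial (Fin n) K)
    (hI : rename Fin.succ h ∈ Ideal.span (Set.range fun j => map (algebraMap (𝓞 K) K) (f j)))
    (s : Fin n → K) (hs : eval s h ≠ 0) :
    ∃ B : Finset Pl, ∀ v ∉ B, (∀ i, v.valuation K (s i) ≤ 1) → ∀ x : v.adicCompletion K,
      x ∈ v.adicCompletionIntegers K →
      ∃ j, Valued.v (ev (v.adicCompletion K) (Fin.cons x fun i => algebraMap K _ (s i)) (f j)) = 1 := by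
  classical
  obtain ⟨a, ha⟩ := Ideal.mem_span_range_iff_exists_fun.mp hI
  let coeffs : Finset K := Finset.univ.biUnion fun j => (a j).support.image fun d => (a j).coeff d
  refine ⟨(finite_valuation_ne_one hs).toFinset ∪
    coeffs.biUnion fun c => (finite_not_le_one c).toFinset, fun v hv hsv x hx => ?_⟩
  simp only [Finset.mem_union, Finset.mem_biUnion, Set.Finite.mem_toFinset, Set.mem_ofPred_eq,
    not_or, not_exists, not_and, not_not] at hv
  obtain ⟨hv1, hv2⟩ := hv
  set R : Fin (n + 1) → v.adicCompletion K := Fin.cons x fun i => algebraMap K _ (s i) with hR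
  have hRint : ∀ i, R i ∈ v.adicCompletionIntegers K := by
    refine Fin.cases ?_ fun i => ?_
    · simpa [hR] using hx
    · simp only [hR, Fin.cons_succ]
      rw [HeightOneSpectrum.mem_adicCompletionIntegers, valued_algebraMap]
      exact hsv i
  have ha' := congrArg (aeval R) ha
  rw [map_sum, aeval_rename] at ha'
  have hcomp : (R ∘ Fin.succ) = fun i => algebraMap K (v.adicCompletion K) (s i) := by
    funext i; simp [hR]
  rw [hcomp, aeval_def] at ha'
  rw [show eval₂ (algebraMap K (v.adicCompletion K)) (fun i => algebraMap K _ (s i)) h =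
    algebraMap K _ (eval s h) from (eval₂_comp_left (algebraMap K (v.adicCompletion K)) (RingHom.id K) s h).symm] at ha'
  by_contra hcon
  simp only [not_exists] at hcon
  have hlt : ∀ j, Valued.v (aeval R (a j * map (algebraMap (𝓞 K) K) (f j))) < 1 := by
    intro j
    rw [map_mul, map_mul, ev_eq]
    refine mul_lt_one_of_nonneg_of_lt_one_right ?_ zero_le' ?_
    · rw [aeval_def, eval₂_eq]
      refine Valuation.map_sum_le _ fun d hd => ?_
      rw [map_mul, valued_algebraMap, map_prod]
      refine mul_le_one' (hv2 _ ?_) (Finset.prod_le_one' fun i _ => ?_)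
      · exact Finset.mem_biUnion.mpr ⟨j, Finset.mem_univ _, Finset.mem_image_of_mem _ hd⟩
      · rw [map_pow]; exact pow_le_one' (hRint i) _
    · exact lt_of_le_of_ne (ev_mem_integers v hRint _) (hcon j)
  have hsum : Valued.v (algebraMap K (v.adicCompletion K) (eval s h)) < 1 := by
    rw [← ha']
    exact Valuation.map_sum_lt _ one_ne_zero fun j _ => hlt j
  rw [valued_algebraMap, hv1] at hsum
  exact lt_irrefl _ hsum

/-- a polynomial of degree `≤ D` with a unit coefficient takes a unit value at one of `0, …, D` -/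
theorem exists_unit_value (v : Pl) {D : ℕ} (hD : ∀ i : ℕ, 0 < i → i ≤ D → (i : 𝓞 K) ∉ v.asIdeal)
    (c : Fin (D + 1) → v.adicCompletion K) (hc : ∀ l, Valued.v (c l) ≤ 1)
    (hu : ∃ l, Valued.v (c l) = 1) :
    ∃ i : Fin (D + 1), Valued.v (∑ l, c l * ((i : ℕ) : v.adicCompletion K) ^ (l : ℕ)) = 1 := by
  classical
  let t : Fin (D + 1) → v.adicCompletion K := fun i => ((i : ℕ) : v.adicCompletion K)
  have ht : ∀ i, Valued.v (t i) ≤ 1 := fun i => by
    show ((i : ℕ) : v.adicCompletion K) ∈ v.adicCompletionIntegers K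
    exact natCast_mem _ _
  have hnat : ∀ i : ℕ, 0 < i → i ≤ D → Valued.v (i : v.adicCompletion K) = 1 := by
    intro i h0 hi
    rw [← map_natCast (algebraMap K (v.adicCompletion K)), valued_algebraMap,
      ← map_natCast (algebraMap (𝓞 K) K)]
    exact valuation_eq_one_of_notMem v (hD i h0 hi)
  let M := Matrix.vandermonde t
  have hdiff : ∀ i j : Fin (D + 1), i < j → Valued.v (t j - t i) = 1 := by
    intro i j hij
    show Valued.v (((j : ℕ) : v.adicCompletion K) - ((i : ℕ) : _)) = 1
    rw [← Nat.cast_sub (le_of_lt hij : (i : ℕ) ≤ j)]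
    exact hnat _ (by have : (i : ℕ) < j := hij; omega) (by omega)
  have hdet : Valued.v M.det = 1 := by
    rw [Matrix.det_vandermonde, map_prod]
    refine Finset.prod_eq_one fun i _ => ?_
    rw [map_prod]
    exact Finset.prod_eq_one fun j hj => hdiff i j (Finset.mem_Ioi.mp hj)
  by_contra hcon
  simp only [not_exists] at hcon
  obtain ⟨l, hl⟩ := hu
  have hlt : ∀ i, Valued.v (M.mulVec c i) < 1 := by
    intro i
    have e : M.mulVec c i = ∑ l, c l * t i ^ (l : ℕ) := by
      simp [Matrix.mulVec, dotProduct, M, Matrix.vandermonde, mul_comm]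
    rw [e]
    refine lt_of_le_of_ne (Valuation.map_sum_le _ fun l _ => ?_) (hcon i)
    rw [map_mul, map_pow]; exact mul_le_one' (hc l) (pow_le_one' (ht i) _)
  have hM : ∀ a b, M a b ∈ v.adicCompletionIntegers K := fun a b => by
    simp only [M, Matrix.vandermonde_apply]; exact pow_mem (ht a) _
  let M' : Matrix (Fin (D + 1)) (Fin (D + 1)) (v.adicCompletionIntegers K) :=
    Matrix.of fun a b => ⟨M a b, hM a b⟩
  have hM' : M'.map (v.adicCompletionIntegers K).subtype = M := rfl
  have hadj : ∀ a b, Valued.v (M.adjugate a b) ≤ 1 := fun a b => by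
    have h := congrFun (congrFun (RingHom.map_adjugate (v.adicCompletionIntegers K).subtype M') a) b
    rw [RingHom.mapMatrix_apply, RingHom.mapMatrix_apply, hM'] at h
    rw [← h]
    exact (M'.adjugate a b).2
  have hkey : M.det * c l = M.adjugate.mulVec (M.mulVec c) l := by
    rw [Matrix.mulVec_mulVec, Matrix.adjugate_mul, Matrix.smul_mulVec, Matrix.one_mulVec]; rfl
  have : Valued.v (M.det * c l) < 1 := by
    rw [hkey, Matrix.mulVec, dotProduct]
    refine Valuation.map_sum_lt _ one_ne_zero fun i _ => ?_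
    rw [map_mul]
    exact mul_lt_one_of_nonneg_of_lt_one_right (hadj l i) zero_le' (hlt i)
  rw [map_mul, hdet, hl, one_mul] at this
  exact lt_irrefl _ this

/-- nonzero polynomials do not vanish on nonempty open sets of a completion -/
theorem exists_eval_ne_zero {n : ℕ} {h : MvPolynomial (Fin n) K} (hh : h ≠ 0) (w : InfinitePlace K)
    {U : Set (Fin n → w.Completion)} (hU : IsOpen U) (hne : U.Nonempty) :
    ∃ s ∈ U, aeval s h ≠ 0 := by
  classical
  obtain ⟨s, hs⟩ := hne
  haveI : CharZero w.Completion :=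
    charZero_of_injective_algebraMap (algebraMap K w.Completion).injective
  obtain ⟨p, hp⟩ : ∃ p : Fin n → w.Completion, aeval p h ≠ 0 := by
    by_contra hc
    simp only [not_exists, not_not] at hc
    apply hh
    apply MvPolynomial.map_injective _ (algebraMap K w.Completion).injective
    rw [map_zero]
    refine MvPolynomial.funext fun q => ?_
    rw [map_zero, eval_map, ← aeval_def]; exact hc q
  let line : Polynomial w.Completion :=
    aeval (fun i => Polynomial.C (s i) + Polynomial.C (p i - s i) * Polynomial.X) h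
  have heval : ∀ t : w.Completion, line.eval t = aeval (fun i => s i + (p i - s i) * t) h := by
    intro t
    have := comp_aeval_apply (fun i => Polynomial.C (s i) + Polynomial.C (p i - s i) * Polynomial.X)
      ((Polynomial.aeval t : Polynomial w.Completion →ₐ[w.Completion] w.Completion).restrictScalars K) h
    simp only [AlgHom.restrictScalars_apply, Polynomial.aeval_def, Polynomial.eval₂_add,
      Polynomial.eval₂_mul, Polynomial.eval₂_C, Polynomial.eval₂_X, Algebra.algebraMap_self,
      RingHom.id_apply] at this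
    exact this
  have hline : line ≠ 0 := by
    intro h0
    have := heval 1
    simp only [h0, Polynomial.eval_zero, mul_one, add_sub_cancel] at this
    exact hp this.symm
  have hnb : {t : w.Completion | (fun i => s i + (p i - s i) * t) ∈ U} ∈ nhds (0 : w.Completion) :=
    ContinuousAt.preimage_mem_nhds (by fun_prop) (hU.mem_nhds (by simpa using hs))
  obtain ⟨ε, hε, hball⟩ := Metric.mem_nhds_iff.mp hnb
  obtain ⟨c, hc0, hc⟩ : ∃ c : w.Completion, c ≠ 0 ∧ ‖c‖ < min 1 ε := by
    obtain ⟨c, hc⟩ := (InfinitePlace.Completion.denseRange_coe (v := w)).exists_mem_open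
      (s := Metric.ball (0 : w.Completion) (min 1 ε) \ {0})
      (Metric.isOpen_ball.sdiff isClosed_singleton) (by
        obtain ⟨N, hN⟩ := exists_nat_gt (1 / min 1 ε)
        have hpos : (0 : ℝ) < min 1 ε := lt_min one_pos hε
        have hNpos : (0 : ℝ) < N := lt_trans (by positivity) hN
        have hN0 : ((N : K))⁻¹ ≠ 0 := inv_ne_zero (by
          exact_mod_cast (show N ≠ 0 by rintro rfl; simp at hNpos))
        refine ⟨algebraMap K w.Completion ((N : K))⁻¹, ?_, ?_⟩
        · rw [mem_ball_zero_iff, InfinitePlace.Completion.algebraMap_apply, InfinitePlace.Completion.norm_coe]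
          show w ((N : K))⁻¹ < min 1 ε
          rw [map_inv₀, ← w.norm_embedding_eq, map_natCast, Complex.norm_natCast, inv_lt_comm₀ hNpos hpos]
          simpa using hN
        · simpa using hN0)
    exact ⟨_, hc.2, by simpa using hc.1⟩
  have hinf : Set.Infinite (Set.range fun i : ℕ => c ^ (i + 1)) := by
    refine Set.infinite_range_of_injective fun a b hab => ?_
    have h1 := congrArg norm hab
    simp only [norm_pow] at h1
    have := (pow_right_strictAnti₀ (norm_pos_iff.mpr hc0) (lt_of_lt_of_le hc (min_le_left _ _))).injective h1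
    omega
  obtain ⟨t, ⟨i, rfl⟩, ht⟩ := (hinf.sdiff (line.roots.toFinset.finite_toSet)).nonempty
  refine ⟨fun i' => s i' + (p i' - s i') * c ^ (i + 1),
    @hball (c ^ (i + 1)) (mem_ball_zero_iff.mpr ?_), ?_⟩
  · show ‖c ^ (i + 1)‖ < ε
    rw [norm_pow]
    exact lt_of_le_of_lt (pow_le_of_le_one (norm_nonneg _)
      (lt_of_lt_of_le hc (min_le_left _ _)).le (Nat.succ_ne_zero i)) (lt_of_lt_of_le hc (min_le_right _ _))
  · rw [← heval]
    intro h0
    exact ht (by simp [hline, h0])

theorem withBot_cases {d : WithBot ℕ∞} {N : ℕ} (h : d + 2 ≤ (N : WithBot ℕ∞)) :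
    d = ⊥ ∨ ∃ e : ℕ, d = (e : WithBot ℕ∞) ∧ e + 2 ≤ N := by
  induction d with
  | bot => exact Or.inl rfl
  | coe d =>
    induction d with
    | top =>
      exfalso
      have h' : ((⊤ : ℕ∞) : WithBot ℕ∞) + ((2 : ℕ∞) : WithBot ℕ∞) ≤ ((N : ℕ∞) : WithBot ℕ∞) := h
      rw [← WithBot.coe_add, WithBot.coe_le_coe, top_add, top_le_iff] at h'
      exact ENat.coe_ne_top N h'
    | coe e =>
      refine Or.inr ⟨e, rfl, ?_⟩
      have h' : ((e : ℕ∞) : WithBot ℕ∞) + ((2 : ℕ∞) : WithBot ℕ∞) ≤ ((N : ℕ∞) : WithBot ℕ∞) := h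
      rw [← WithBot.coe_add, WithBot.coe_le_coe] at h'
      exact_mod_cast h'

theorem exists_elimination {n m : ℕ} (f : Fin m → MvPolynomial (Fin (n + 1)) K)
    (hdim : ringKrullDim (MvPolynomial (Fin (n + 1)) K ⧸ Ideal.span (Set.range f)) + 2 ≤
      ((n + 1 : ℕ) : WithBot ℕ∞)) :
    ∃ h : MvPolynomial (Fin n) K, h ≠ 0 ∧ rename Fin.succ h ∈ Ideal.span (Set.range f) := by
  by_contra hc
  simp only [not_exists, not_and] at hc
  let g := (Ideal.Quotient.mkₐ K (Ideal.span (Set.range f))).comp
    (rename (R := K) (Fin.succ : Fin n → Fin (n + 1)))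
  have hg : Function.Injective g := by
    rw [injective_iff_map_eq_zero]
    intro c hc'
    by_contra hne
    exact hc c hne (Ideal.Quotient.eq_zero_iff_mem.mp hc')
  have h1 := le_ringKrullDim_of_injective g hg
  revert h1 hdim
  generalize ringKrullDim (MvPolynomial (Fin (n + 1)) K ⧸ Ideal.span (Set.range f)) = d
  intros hdim h1
  rcases withBot_cases hdim with rfl | ⟨e, rfl, he⟩
  · simp at h1
  · replace h1 : n ≤ e := by exact_mod_cast h1
    omega

/-- the dimension of the coefficient ideal -/
theorem ringKrullDim_coeff {n m D : ℕ} (f : Fin m → MvPolynomial (Fin (n + 1)) (𝓞 K))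
    (hD : ∀ j, (finSuccEquiv (𝓞 K) n (f j)).natDegree ≤ D)
    (hdim : ringKrullDim (MvPolynomial (Fin (n + 1)) K ⧸
      Ideal.span (Set.range fun j => map (algebraMap (𝓞 K) K) (f j))) + 2 ≤ ((n + 1 : ℕ) : WithBot ℕ∞))
    {ι : Type} (idx : ι → Fin m × Fin (D + 1)) (hidx : Function.Surjective idx) :
    ringKrullDim (MvPolynomial (Fin n) K ⧸ Ideal.span (Set.range fun i =>
      map (algebraMap (𝓞 K) K) ((finSuccEquiv (𝓞 K) n (f (idx i).1)).coeff ((idx i).2 : ℕ)))) + 2 ≤
      (n : WithBot ℕ∞) := by
  set J := Ideal.span (Set.range fun i =>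
      map (algebraMap (𝓞 K) K) ((finSuccEquiv (𝓞 K) n (f (idx i).1)).coeff ((idx i).2 : ℕ))) with hJ
  let ψ : MvPolynomial (Fin (n + 1)) K →+* Polynomial (MvPolynomial (Fin n) K ⧸ J) :=
    (Polynomial.mapRingHom (Ideal.Quotient.mk J)).comp (finSuccEquiv K n).toRingHom
  have hψ : Function.Surjective ψ :=
    (Polynomial.map_surjective _ Ideal.Quotient.mk_surjective).comp (finSuccEquiv K n).surjective
  have hcomm : ∀ q : MvPolynomial (Fin (n + 1)) (𝓞 K),
      finSuccEquiv K n (map (algebraMap (𝓞 K) K) q) =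
        (finSuccEquiv (𝓞 K) n q).map (map (algebraMap (𝓞 K) K)) := by
    have : (finSuccEquiv K n).toRingHom.comp (map (algebraMap (𝓞 K) K)) =
        (Polynomial.mapRingHom (map (algebraMap (𝓞 K) K))).comp (finSuccEquiv (𝓞 K) n).toRingHom := by
      refine MvPolynomial.ringHom_ext (fun r => ?_) (Fin.cases ?_ fun i => ?_)
      · simp [finSuccEquiv_apply]
      · simp [finSuccEquiv_apply]
      · simp [finSuccEquiv_apply]
    exact fun q => RingHom.congr_fun this q
  have hker : Ideal.span (Set.range fun j => map (algebraMap (𝓞 K) K) (f j)) ≤ RingHom.ker ψ := by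
    rw [Ideal.span_le]
    rintro _ ⟨j, rfl⟩
    show (finSuccEquiv K n (map (algebraMap (𝓞 K) K) (f j))).map (Ideal.Quotient.mk J) = 0
    rw [hcomm]
    ext l : 1
    rw [Polynomial.coeff_map, Polynomial.coeff_map, Polynomial.coeff_zero, Ideal.Quotient.eq_zero_iff_mem]
    rcases le_or_gt l D with hl | hl
    · obtain ⟨i, hi⟩ := hidx (j, ⟨l, Nat.lt_succ_of_le hl⟩)
      refine hJ ▸ Ideal.subset_span ⟨i, ?_⟩
      simp only [hi]
    · rw [Polynomial.coeff_eq_zero_of_natDegree_lt (lt_of_le_of_lt (hD j) hl), map_zero]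
      exact zero_mem _
  have hle : ringKrullDim (MvPolynomial (Fin n) K ⧸ J) + 1 ≤ ringKrullDim (MvPolynomial (Fin (n + 1)) K ⧸
      Ideal.span (Set.range fun j => map (algebraMap (𝓞 K) K) (f j))) := by
    rw [← Polynomial.ringKrullDim_of_isNoetherianRing]
    exact ringKrullDim_le_of_surjective (Ideal.Quotient.lift _ ψ fun a ha => hker ha)
      (Ideal.Quotient.lift_surjective_of_surjective _ _ hψ)
  revert hle hdim
  generalize ringKrullDim (MvPolynomial (Fin (n + 1)) K ⧸
    Ideal.span (Set.range fun j => map (algebraMap (𝓞 K) K) (f j))) = d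
  generalize ringKrullDim (MvPolynomial (Fin n) K ⧸ J) = d'
  intros hdim hle
  rcases withBot_cases hdim with rfl | ⟨e, rfl, he⟩
  · rcases d' with _ | d'
    · exact bot_le
    · simp at hle
  · calc d' + 2 = (d' + 1) + 1 := by rw [add_assoc, one_add_one_eq_two]
      _ ≤ (e : WithBot ℕ∞) + 1 := by gcongr
      _ ≤ (n : WithBot ℕ∞) := by exact_mod_cast (show e + 1 ≤ n by omega)

/-- the main induction -/
theorem exists_point_codim_two : ∀ (n : ℕ) (m : ℕ) (f : Fin m → MvPolynomial (Fin n) (𝓞 K)),
    ringKrullDim (MvPolynomial (Fin n) K ⧸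
      Ideal.span (Set.range fun j => map (algebraMap (𝓞 K) K) (f j))) + 2 ≤ (n : WithBot ℕ∞) →
    ∀ (v₀ : Pl) (Sf : Finset Pl), v₀ ∈ Sf →
    ∀ (N : (v : Pl) → Set (Fin n → v.adicCompletion K)),
      (∀ v ∈ Sf, v ≠ v₀ → IsOpen (N v) ∧ (N v).Nonempty) →
    ∀ (Ni : (w : InfinitePlace K) → Set (Fin n → w.Completion)),
      (∀ w, IsOpen (Ni w) ∧ (Ni w).Nonempty) →
    ∀ (T : Finset Pl), Disjoint T Sf →
    ∀ (W : (v : Pl) → Set (Fin n → v.adicCompletion K)),
      (∀ v ∈ T, IsOpen (W v) ∧ ∃ Q ∈ W v, Good v f Q) →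
    (∀ v ∉ Sf, ∃ R, Good v f R) →
    ∃ P : Fin n → K,
      (∀ v ∉ Sf, Good v f fun i => algebraMap K (v.adicCompletion K) (P i)) ∧
      (∀ v ∈ Sf, v ≠ v₀ → (fun i => algebraMap K (v.adicCompletion K) (P i)) ∈ N v) ∧
      (∀ w : InfinitePlace K, (fun i => algebraMap K w.Completion (P i)) ∈ Ni w) ∧
      ∀ v ∈ T, (fun i => algebraMap K (v.adicCompletion K) (P i)) ∈ W v
  | 0, m, f, _, v₀, Sf, hv₀, N, hN, Ni, hNi, T, hT, W, hW, hne => by
    refine ⟨Fin.elim0, fun v hv => ?_, fun v hv hv' => ?_, fun w => ?_, fun v hv => ?_⟩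
    · obtain ⟨R, hR⟩ := hne v hv
      convert hR using 1
    · obtain ⟨R, hR⟩ := (hN v hv hv').2
      convert hR using 1
    · obtain ⟨R, hR⟩ := (hNi w).2
      convert hR using 1
    · obtain ⟨R, hR, -⟩ := (hW v hv).2
      convert hR using 1
  | n + 1, m, f, hdim, v₀, Sf, hv₀, N, hN, Ni, hNi, T, hT, W, hW, hne => by
    classical
    obtain ⟨h, hh0, hh⟩ := exists_elimination _ hdim
    let D : ℕ := Finset.univ.sup fun j => (finSuccEquiv (𝓞 K) n (f j)).natDegree
    have hD : ∀ j, (finSuccEquiv (𝓞 K) n (f j)).natDegree ≤ D := fun j =>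
      Finset.le_sup (f := fun j => (finSuccEquiv (𝓞 K) n (f j)).natDegree) (Finset.mem_univ j)
    let eq := (Fintype.equivFin (Fin m × Fin (D + 1))).symm
    let g : Fin (Fintype.card (Fin m × Fin (D + 1))) → MvPolynomial (Fin n) (𝓞 K) := fun i =>
      (finSuccEquiv (𝓞 K) n (f (eq i).1)).coeff ((eq i).2 : ℕ)
    have hdim' := ringKrullDim_coeff f hD hdim eq eq.surjective
    have hgood : ∀ (v : Pl) (x : v.adicCompletion K) (s : Fin n → v.adicCompletion K),
        Good v f (Fin.cons x s) → Good v g s := by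
      rintro v x s ⟨hint, j, hj⟩
      have hx : x ∈ v.adicCompletionIntegers K := by simpa using hint 0
      have hs : ∀ i, s i ∈ v.adicCompletionIntegers K := fun i => by simpa using hint i.succ
      refine ⟨hs, ?_⟩
      by_contra hc
      simp only [not_exists] at hc
      rw [ev, eval₂_cons_sum _ x s (f j) (hD j)] at hj
      refine (lt_irrefl (1 : ℤᵐ⁰)) (hj.symm.trans_lt (Valuation.map_sum_lt _ one_ne_zero fun l _ => ?_))
      rw [map_mul, map_pow]
      refine mul_lt_one_of_nonneg_of_lt_one_left zero_le' ?_ (pow_le_one' hx _)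
      have h1 := hc (eq.symm (j, l))
      simp only [g, Equiv.apply_symm_apply] at h1
      exact lt_of_le_of_ne (ev_mem_integers v hs _) h1
    have hnat : ((Nat.factorial D : ℕ) : 𝓞 K) ≠ 0 := Nat.cast_ne_zero.mpr (Nat.factorial_ne_zero D)
    let small : Finset Pl := (finite_setOf_mem hnat).toFinset
    let T' : Finset Pl := T ∪ (small \ Sf)
    have hT' : Disjoint T' Sf := Finset.disjoint_union_left.mpr ⟨hT, Finset.sdiff_disjoint⟩
    let U : (v : Pl) → Set (Fin (n + 1) → v.adicCompletion K) := fun v =>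
      if v ∈ T then W v ∩ {R | Good v f R} else {R | Good v f R}
    have hU : ∀ v ∉ Sf, IsOpen (U v) ∧ (U v).Nonempty := by
      intro v hv
      by_cases hvT : v ∈ T
      · obtain ⟨hO, Q, hQ, hQ'⟩ := hW v hvT
        simp only [U, if_pos hvT]
        exact ⟨hO.inter (isOpen_good v f), Q, hQ, hQ'⟩
      · simp only [U, if_neg hvT]
        exact ⟨isOpen_good v f, hne v hv⟩
    have hUgood : ∀ v R, R ∈ U v → Good v f R := by
      intro v R hR
      by_cases hvT : v ∈ T
      · simp only [U, if_pos hvT] at hR; exact hR.2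
      · simp only [U, if_neg hvT] at hR; exact hR
    have hQf : ∀ v : Pl, ∃ Q : Fin (n + 1) → v.adicCompletion K,
        (v ∉ Sf → Q ∈ U v) ∧ (v ∈ Sf → v ≠ v₀ → Q ∈ N v) := by
      intro v
      by_cases hv : v ∈ Sf
      · by_cases hv' : v = v₀
        · exact ⟨0, fun h => absurd hv h, fun _ h => absurd hv' h⟩
        · obtain ⟨Q, hQ⟩ := (hN v hv hv').2
          exact ⟨Q, fun h => absurd hv h, fun _ _ => hQ⟩
      · obtain ⟨Q, hQ⟩ := (hU v hv).2
        exact ⟨Q, fun _ => hQ, fun h => absurd h hv⟩
    choose Q hQU hQN using hQf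
    choose Qi hQi using fun w => (hNi w).2
    obtain ⟨w₀⟩ := (inferInstance : Nonempty (InfinitePlace K))
    have hcont : ∀ {A : Type u} [TopologicalSpace A] (a : A),
        Continuous fun s : Fin n → A => (Fin.cons a s : Fin (n + 1) → A) :=
      fun a => continuous_const.finCons continuous_id
    let N' : (v : Pl) → Set (Fin n → v.adicCompletion K) := fun v =>
      {s | (Fin.cons (Q v 0) s : Fin (n + 1) → v.adicCompletion K) ∈ N v}
    let W' : (v : Pl) → Set (Fin n → v.adicCompletion K) := fun v =>
      {s | (Fin.cons (Q v 0) s : Fin (n + 1) → v.adicCompletion K) ∈ U v}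
    let Ni' : (w : InfinitePlace K) → Set (Fin n → w.Completion) := fun w =>
      {s | (Fin.cons (Qi w 0) s : Fin (n + 1) → w.Completion) ∈ Ni w ∧ (w = w₀ → aeval s h ≠ 0)}
    have hNi' : ∀ w, IsOpen (Ni' w) ∧ (Ni' w).Nonempty := by
      intro w
      have hO := (hNi w).1.preimage (hcont (Qi w 0))
      have hmem : Fin.tail (Qi w) ∈ (fun s : Fin n → w.Completion => (Fin.cons (Qi w 0) s : Fin (n + 1) → w.Completion)) ⁻¹' Ni w := by
        rw [Set.mem_preimage, Fin.cons_self_tail]; exact hQi w
      by_cases hw : w = w₀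
      · refine ⟨?_, ?_⟩
        · have hcontE : Continuous fun s : Fin n → w.Completion => aeval s h := by
            have h' := (MvPolynomial.map (algebraMap K w.Completion) h).continuous_eval
            simp only [eval_map] at h'
            simpa only [aeval_def] using h'
          have : Ni' w = (fun s => (Fin.cons (Qi w 0) s : Fin (n + 1) → w.Completion)) ⁻¹' Ni w ∩
              (fun s => aeval s h) ⁻¹' {0}ᶜ := by
            ext s; simp [Ni', hw]
          rw [this]
          exact hO.inter (isOpen_compl_singleton.preimage hcontE)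
        · obtain ⟨s, hs, hs'⟩ := exists_eval_ne_zero hh0 w hO ⟨_, hmem⟩
          exact ⟨s, hs, fun _ => hs'⟩
      · have : Ni' w = (fun s => (Fin.cons (Qi w 0) s : Fin (n + 1) → w.Completion)) ⁻¹' Ni w := by
          ext s; simp [Ni', hw]
        rw [this]; exact ⟨hO, _, hmem⟩
    have hne' : ∀ v ∉ Sf, ∃ R, Good v g R := fun v hv =>
      ⟨Fin.tail (Q v), hgood v (Q v 0) _ (by rw [Fin.cons_self_tail]; exact hUgood v _ (hQU v hv))⟩
    obtain ⟨s, hsg, hsN, hsNi, hsW⟩ := exists_point_codim_two n _ g hdim' v₀ Sf hv₀ N'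
      (fun v hv hv' => ⟨(hN v hv hv').1.preimage (hcont _), Fin.tail (Q v), by
        show _ ∈ N v; rw [Fin.cons_self_tail]; exact hQN v hv hv'⟩)
      Ni' hNi' T' hT' W'
      (fun v hv => by
        have hvS : v ∉ Sf := fun h => Finset.disjoint_left.mp hT' hv h
        refine ⟨(hU v hvS).1.preimage (hcont _), Fin.tail (Q v), ?_, ?_⟩
        · show _ ∈ U v; rw [Fin.cons_self_tail]; exact hQU v hvS
        · exact hgood v (Q v 0) _ (by rw [Fin.cons_self_tail]; exact hUgood v _ (hQU v hvS)))
      hne'
    have hs0 : eval s h ≠ 0 := by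
      intro h0
      apply (hsNi w₀).2 rfl
      rw [aeval_def, show eval₂ (algebraMap K w₀.Completion) (fun i => algebraMap K _ (s i)) h =
        algebraMap K _ (eval s h) from (eval₂_comp_left (algebraMap K w₀.Completion) (RingHom.id K) s h).symm,
        h0, map_zero]
    obtain ⟨B, hB⟩ := finite_bad_of_mem_span f h hh s hs0
    let F : Finset Pl := Sf.erase v₀ ∪ T' ∪ (B \ Sf)
    have hF : v₀ ∉ F := by
      simp only [F, Finset.mem_union, Finset.mem_erase, ne_eq, not_true_eq_false, false_and,
        false_or, Finset.mem_sdiff, hv₀, and_false, or_false]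
      exact fun h => Finset.disjoint_left.mp hT' h hv₀
    let X : (v : Pl) → Set (v.adicCompletion K) := fun v =>
      {x | (Fin.cons x fun i => algebraMap K (v.adicCompletion K) (s i) : Fin (n + 1) → _) ∈
        if v ∈ Sf then N v else U v}
    have hX : ∀ v ∈ F, IsOpen (X v) ∧ (X v).Nonempty := by
      intro v hv
      have hcx : Continuous fun x : v.adicCompletion K =>
          (Fin.cons x fun i => algebraMap K (v.adicCompletion K) (s i) : Fin (n + 1) → _) :=
        (continuous_pi (Fin.cases (by simpa using continuous_id') fun i => by simpa using continuous_const))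
      by_cases hvS : v ∈ Sf
      · have hv0 : v ≠ v₀ := fun h => hF (h ▸ hv)
        simp only [X, if_pos hvS]
        exact ⟨(hN v hvS hv0).1.preimage hcx, Q v 0, hsN v hvS hv0⟩
      · simp only [X, if_neg hvS]
        refine ⟨(hU v hvS).1.preimage hcx, ?_⟩
        by_cases hvT' : v ∈ T'
        · exact ⟨Q v 0, hsW v hvT'⟩
        · have hvT : v ∉ T := fun h => hvT' (Finset.mem_union_left _ h)
          have hsmall : v ∉ small := fun h => hvT' (Finset.mem_union_right _ (Finset.mem_sdiff.mpr ⟨h, hvS⟩))
          have hD' : ∀ i : ℕ, 0 < i → i ≤ D → (i : 𝓞 K) ∉ v.asIdeal := by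
            intro i h0 hi hmem
            refine hsmall ((finite_setOf_mem hnat).mem_toFinset.mpr ?_)
            obtain ⟨k, hk⟩ := Nat.dvd_factorial h0 hi
            show ((Nat.factorial D : ℕ) : 𝓞 K) ∈ v.asIdeal
            rw [hk, Nat.cast_mul]; exact Ideal.mul_mem_right _ _ hmem
          obtain ⟨hsint, l, hl⟩ := hsg v hvS
          obtain ⟨i, hi⟩ := exists_unit_value v hD'
            (fun l' => ev (v.adicCompletion K) (fun i => algebraMap K _ (s i))
              ((finSuccEquiv (𝓞 K) n (f (eq l).1)).coeff l'))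
            (fun l' => ev_mem_integers v hsint _) ⟨(eq l).2, hl⟩
          refine ⟨((i : ℕ) : v.adicCompletion K), ?_⟩
          show _ ∈ U v
          simp only [U, if_neg hvT]
          refine ⟨Fin.cases ?_ fun i => ?_, (eq l).1, ?_⟩
          · simpa using natCast_mem (v.adicCompletionIntegers K) (i : ℕ)
          · simpa using hsint i
          · rw [ev, eval₂_cons_sum _ _ _ _ (hD _)]; exact hi
    obtain ⟨a, ha, haX, haNi⟩ := exists_near v₀ F hF X hX
      (fun w => {x | (Fin.cons x fun i => algebraMap K w.Completion (s i) : Fin (n + 1) → _) ∈ Ni w})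
      (fun w => ⟨(hNi w).1.preimage ((continuous_pi (Fin.cases (by simpa using continuous_id') fun i => by simpa using continuous_const))), Qi w 0, (hsNi w).1⟩)
    have hcons : ∀ {A : Type u} [CommRing A] [Algebra K A],
        (fun i => algebraMap K A ((Fin.cons a s : Fin (n + 1) → K) i)) =
          Fin.cons (algebraMap K A a) fun i => algebraMap K A (s i) := by
      intro A _ _
      funext i
      refine Fin.cases ?_ (fun i => ?_) i <;> simp
    refine ⟨Fin.cons a s, fun v hv => ?_, fun v hv hv' => ?_, fun w => ?_, fun v hv => ?_⟩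
    · rw [hcons]
      by_cases hvF : v ∈ F
      · have := haX v hvF
        simp only [X, if_neg hv] at this
        exact hUgood v _ this
      · have hvB : v ∉ B := fun h => hvF (Finset.mem_union_right _ (Finset.mem_sdiff.mpr ⟨h, hv⟩))
        have haint : algebraMap K (v.adicCompletion K) a ∈ v.adicCompletionIntegers K := by
          rw [HeightOneSpectrum.mem_adicCompletionIntegers, valued_algebraMap]
          exact ha v hvF (fun h => hv (h ▸ hv₀))
        have hsint := (hsg v hv).1
        refine ⟨fun i => ?_, ?_⟩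
        · refine Fin.cases ?_ (fun i => ?_) i
          · simpa using haint
          · simpa using hsint i
        · exact hB v hvB (fun i => by rw [← valued_algebraMap]; exact hsint i) _ haint
    · rw [hcons]
      have := haX v (Finset.mem_union_left _ (Finset.mem_union_left _ (Finset.mem_erase.mpr ⟨hv', hv⟩)))
      simp only [X, if_pos hv] at this
      exact this
    · rw [hcons]; exact haNi w
    · have hvS : v ∉ Sf := fun h => Finset.disjoint_left.mp hT hv h
      rw [hcons]
      have := haX v (Finset.mem_union_left _ (Finset.mem_union_right _ (Finset.mem_union_left _ hv)))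
      simp only [X, if_neg hvS, U, if_pos hv] at this
      exact this.1

end Groth.Agent.StrongApprox
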